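import Mathlib
import Cfsg.Prelude.Def_HallClasses

/-!
# π-homogeneous groups with the full Sylow theorems for π: basic facts
-/

set_option autoImplicit false
set_option linter.unusedSectionVars false

open Subgroup

namespace Cfsg.Agent.PiHom

universe u

/-- A positive number all whose prime divisors lie in `π`. -/
def PiNum (π : Set ℕ) (k : ℕ) : Prop := 0 < k ∧ ∀ p : ℕ, p.Prime → p ∣ k → p ∈ π

/-- A `π`-subgroup into which every `π`-subgroup can be conjugated, in a group whose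
`π`-subgroups have `π`-groups as automisers. -/
structure Setup (π : Set ℕ) {G : Type u} [Group G] (H : Subgroup G) : Prop where
  piH : Cfsg.IsPiSubgroup π H
  into : ∀ L : Subgroup G, Cfsg.IsPiSubgroup π L → ∃ y : G, ∀ l ∈ L, y * l * y⁻¹ ∈ H
  hom : ∀ U : Subgroup G, U ≠ ⊥ → Cfsg.IsPiSubgroup π U → ∀ n ∈ normalizer (U : Set G),
    ∃ k : ℕ, PiNum π k ∧ n ^ k ∈ centralizer (U : Set G)

variable {π : Set ℕ} {G : Type u} [Group G] [Finite G]

theorem piSub_le {U V : Subgroup G} (hV : Cfsg.IsPiSubgroup π V) (h : U ≤ V) :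
    Cfsg.IsPiSubgroup π U :=
  fun p hp hd => hV p hp (hd.trans (card_dvd_of_le h))

theorem piSub_pgroup {p : ℕ} [hp : Fact p.Prime] (hpπ : p ∈ π) {U : Subgroup G}
    (hU : IsPGroup p U) : Cfsg.IsPiSubgroup π U := by
  intro q hq hd
  obtain ⟨n, hn⟩ := IsPGroup.iff_card.mp hU
  rw [hn] at hd
  exact ((Nat.prime_dvd_prime_iff_eq hq hp.out).mp (hq.dvd_of_dvd_pow hd)) ▸ hpπ

theorem piSub_sup {W X : Subgroup G} (hW : Cfsg.IsPiSubgroup π W) (hX : Cfsg.IsPiSubgroup π X)
    (h : X ≤ normalizer (W : Set G)) : Cfsg.IsPiSubgroup π (X ⊔ W) := by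
  intro p hp hd
  have hn : (W.subgroupOf (X ⊔ W)).Normal :=
    normal_subgroupOf_of_le_normalizer (sup_le h le_normalizer)
  have h1 : Nat.card ↥(X ⊔ W) = Nat.card W * W.relIndex (X ⊔ W) := by
    rw [← Subgroup.card_mul_index (W.subgroupOf (X ⊔ W)),
      Nat.card_congr (subgroupOfEquivOfLe (le_sup_right : W ≤ X ⊔ W)).toEquiv]
    rfl
  have h2 : W.relIndex (X ⊔ W) ∣ Nat.card X := by
    have h3 := relIndex_sup_right (X.subgroupOf (X ⊔ W)) (W.subgroupOf (X ⊔ W))
    rw [← subgroupOf_sup le_sup_left le_sup_right, relIndex_subgroupOf le_rfl,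
      relIndex_subgroupOf le_sup_left] at h3
    rw [h3]
    exact relIndex_dvd_card _ _
  rw [h1] at hd
  rcases (Nat.Prime.dvd_mul hp).mp hd with h4 | h4
  · exact hW p hp h4
  · exact hX p hp (h4.trans h2)

theorem relIndex_sup_normal (Y C : Subgroup G) [C.Normal] :
    Y.relIndex (Y ⊔ C) = Y.relIndex C := by
  have a : Nat.card ↥(Y ⊔ C) = Nat.card Y * Y.relIndex (Y ⊔ C) := by
    rw [← Subgroup.card_mul_index (Y.subgroupOf (Y ⊔ C)),
      Nat.card_congr (subgroupOfEquivOfLe (le_sup_left : Y ≤ Y ⊔ C)).toEquiv]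
    rfl
  have b : Nat.card ↥(Y ⊔ C) = Nat.card C * C.relIndex Y := by
    rw [← Subgroup.card_mul_index (C.subgroupOf (Y ⊔ C)),
      Nat.card_congr (subgroupOfEquivOfLe (le_sup_right : C ≤ Y ⊔ C)).toEquiv, ← relIndex_sup_right Y C]
    rfl
  have e1 : Nat.card ↥(Y ⊓ C : Subgroup G) * C.relIndex Y = Nat.card Y := by
    rw [← inf_relIndex_left, ← Subgroup.card_mul_index ((Y ⊓ C).subgroupOf Y),
      Nat.card_congr (subgroupOfEquivOfLe (inf_le_left : Y ⊓ C ≤ Y)).toEquiv]
    rfl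
  have e2 : Nat.card ↥(Y ⊓ C : Subgroup G) * Y.relIndex C = Nat.card C := by
    rw [← inf_relIndex_right, ← Subgroup.card_mul_index ((Y ⊓ C).subgroupOf C),
      Nat.card_congr (subgroupOfEquivOfLe (inf_le_right : Y ⊓ C ≤ C)).toEquiv]
    rfl
  have : Nat.card Y * Y.relIndex (Y ⊔ C) = Nat.card Y * Y.relIndex C := by
    rw [← a, b, ← e2, ← e1]
    ring
  exact mul_left_cancel₀ Nat.card_pos.ne' this

/-- A subgroup covering a normal subgroup with `π`-quotient can be chosen to be a `π`-group. -/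
theorem exists_pi_supplement {N : Type u} [Group N] [Finite N] (C : Subgroup N) [C.Normal]
    (h : ∀ n : N, ∃ k : ℕ, PiNum π k ∧ n ^ k ∈ C) :
    ∃ X : Subgroup N, X ⊔ C = ⊤ ∧ Cfsg.IsPiSubgroup π X := by
  obtain ⟨X, -, hX⟩ := exists_minimal_le_of_wellFoundedLT (fun X : Subgroup N => X ⊔ C = ⊤) ⊤
    (by simp)
  refine ⟨X, hX.prop, fun q hq hd => ?_⟩
  by_contra hqπ
  have := Fact.mk hq
  have hD : C.subgroupOf X ≤ frattini X := by
    refine le_iInf fun M => le_iInf fun hM => ?_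
    by_contra hle
    have hsup : M ⊔ C.subgroupOf X = ⊤ := hM.2 _ (left_lt_sup.mpr hle)
    have hlt : M.map X.subtype < X := by
      refine lt_of_le_of_ne (map_subtype_le M) fun e => hM.1 ?_
      refine Subgroup.map_injective X.subtype_injective ?_
      rw [e, ← MonoidHom.range_eq_map, range_subtype]
    refine hlt.not_ge (hX.le_of_le ?_ hlt.le)
    refine le_antisymm le_top ?_
    rw [← hX.prop]
    refine sup_le ?_ le_sup_right
    calc X = (⊤ : Subgroup X).map X.subtype := by rw [← MonoidHom.range_eq_map, range_subtype]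
      _ = M.map X.subtype ⊔ (C.subgroupOf X).map X.subtype := by rw [← hsup, Subgroup.map_sup]
      _ ≤ M.map X.subtype ⊔ C := sup_le_sup_left
          (Subgroup.map_le_iff_le_comap.mpr le_rfl) _
  obtain ⟨Q⟩ : Nonempty (Sylow q X) := inferInstance
  have hQ : (Q : Subgroup X) ≤ C.subgroupOf X := by
    intro x hx
    obtain ⟨j, hj⟩ := Q.isPGroup' ⟨x, hx⟩
    have hj' : (x : N) ^ q ^ j = 1 := by
      simpa using congrArg (fun z : (Q : Subgroup X) => ((z : X) : N)) hj
    obtain ⟨k, ⟨hk0, hk⟩, hxk⟩ := h (x : N)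
    have hco : Nat.Coprime (q ^ j) k :=
      Nat.Coprime.pow_left _ ((hq.coprime_iff_not_dvd).mpr fun hh => hqπ (hk q hq hh))
    rw [mem_subgroupOf]
    have h1 : (x : N) = ((x : N) ^ q ^ j) ^ Nat.gcdA (q ^ j) k * ((x : N) ^ k) ^ Nat.gcdB (q ^ j) k := by
      rw [← zpow_natCast, ← zpow_natCast (x : N) k, ← zpow_mul, ← zpow_mul, ← zpow_add,
        ← Nat.gcd_eq_gcd_ab, hco.gcd_eq_one]
      simp
    rw [h1, hj', one_zpow, one_mul]
    exact zpow_mem hxk _
  have hQΦ : (Q : Subgroup X) ≤ frattini X := hQ.trans hD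
  have hnorm : (Q : Subgroup X).Normal := by
    have h1 := Sylow.normalizer_sup_eq_top' Q hQΦ
    exact normalizer_eq_top_iff.mp (frattini_nongenerating h1)
  obtain ⟨M, hM⟩ := exists_right_complement'_of_coprime Q.card_coprime_index
  have hMtop : M = ⊤ := by
    refine frattini_nongenerating (le_antisymm le_top ?_)
    rw [← hM.sup_eq_top, sup_comm]
    exact sup_le_sup_left hQΦ M
  rw [hMtop, isComplement'_top_right] at hM
  exact Q.ne_bot_of_dvd_card hd hM

/-- Conjugation of `p`-subgroups of `N` into a `p`-subgroup of index prime to `p` in `N`. -/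
theorem conj_into {p : ℕ} [Fact p.Prime] {B N T : Subgroup G} (_hBN : B ≤ N) (hB : IsPGroup p B)
    (hidx : ¬ p ∣ B.relIndex N) (hTN : T ≤ N) (hT : IsPGroup p T) :
    ∃ z ∈ N, ∀ t ∈ T, z * t * z⁻¹ ∈ B := by
  let P : Sylow p N := (hB.comap_subtype (K := N)).toSylow hidx
  obtain ⟨Q, hQ⟩ := (hT.comap_subtype (K := N)).exists_le_sylow
  obtain ⟨z, hz⟩ := MulAction.exists_smul_eq N Q P
  refine ⟨(z : G), z.2, fun t ht => ?_⟩
  have h1 : (⟨t, hTN ht⟩ : N) ∈ (Q : Subgroup N) := hQ ht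
  have h2 : z * ⟨t, hTN ht⟩ * z⁻¹ ∈ ((z • Q : Sylow p N) : Subgroup N) :=
    ⟨_, h1, rfl⟩
  rw [hz] at h2
  exact h2

/-- A proper subgroup of a finite `p`-group is properly contained in its normaliser. -/
theorem grow {p : ℕ} [Fact p.Prime] {U P : Subgroup G} (hP : IsPGroup p P) (hUP : U ≤ P)
    (hne : U ≠ P) : U < P ⊓ normalizer (U : Set G) := by
  have hnil := hP.isNilpotent
  refine lt_of_le_of_ne (le_inf hUP le_normalizer) fun e => ?_
  have h1 : U.subgroupOf P < ⊤ := by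
    rw [lt_top_iff_ne_top, ne_eq, subgroupOf_eq_top]
    exact fun h => hne (le_antisymm hUP h)
  obtain ⟨x, hx, hxU⟩ := SetLike.exists_of_lt (Group.normalizerCondition_of_isNilpotent _ h1)
  refine hxU ?_
  rw [mem_subgroupOf, e]
  refine ⟨x.2, mem_normalizer_iff.mpr fun u => ⟨fun hu => ?_, fun hu => ?_⟩⟩
  · exact (mem_normalizer_iff.mp hx ⟨u, hUP hu⟩).mp hu
  · have hu' : u ∈ P := by
      have := P.mul_mem (P.mul_mem (P.inv_mem x.2) (hUP hu)) x.2
      simpa [mul_assoc] using this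
    exact (mem_normalizer_iff.mp hx ⟨u, hu'⟩).mpr hu

end Cfsg.Agent.PiHom
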