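import Cfsg.Agent.Lib.PiHom.Basic

/-!
# A Hall π-subgroup controls fusion of p-subgroups and of elements
-/

set_option autoImplicit false
set_option linter.unusedSectionVars false

open Subgroup

namespace Cfsg.Agent.PiHom

universe u

variable {π : Set ℕ} {G : Type u} [Group G] [Finite G] {H : Subgroup G}

/-- Every map by conjugation of `U` into `H` is induced by an element of `H`. -/
def Fus (H U : Subgroup G) : Prop :=
  ∀ g : G, (∀ u ∈ U, g * u * g⁻¹ ∈ H) → ∃ h ∈ H, ∀ u ∈ U, h * u * h⁻¹ = g * u * g⁻¹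

theorem mem_map_conj {U : Subgroup G} {g x : G} :
    x ∈ U.map (MulAut.conj g).toMonoidHom ↔ g⁻¹ * x * g ∈ U := by
  constructor
  · rintro ⟨u, hu, rfl⟩
    simpa [mul_assoc] using hu
  · exact fun h => ⟨_, h, by simp [mul_assoc]⟩

theorem conj_mem_map {U : Subgroup G} {g u : G} (hu : u ∈ U) :
    g * u * g⁻¹ ∈ U.map (MulAut.conj g).toMonoidHom :=
  ⟨u, hu, rfl⟩

/-- A Sylow subgroup of `G` inside `H`. -/
theorem exists_sylow_le (hS : Setup π H) {p : ℕ} [Fact p.Prime] (hpπ : p ∈ π) :
    ∃ P : Sylow p G, (P : Subgroup G) ≤ H := by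
  obtain ⟨Q⟩ : Nonempty (Sylow p G) := inferInstance
  obtain ⟨y, hy⟩ := hS.into Q (piSub_pgroup hpπ Q.isPGroup')
  refine ⟨y • Q, fun x hx => ?_⟩
  obtain ⟨q, hq, rfl⟩ := hx
  exact hy q hq

/-- The order of `H` is prime to its index. -/
theorem coprime_index (hS : Setup π H) : Nat.Coprime (Nat.card H) H.index := by
  refine Nat.coprime_of_dvd' fun p hp hd hi => ?_
  exfalso
  have := Fact.mk hp
  obtain ⟨P, hP⟩ := exists_sylow_le hS (p := p) (hS.piH p hp hd)
  exact P.not_dvd_index (hi.trans (index_dvd_of_le hP))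

/-- Conjugation, inside `H`, of a `p`-subgroup of `H` into a Sylow subgroup. -/
theorem into_sylow {p : ℕ} [Fact p.Prime] (P : Sylow p G) (hPH : (P : Subgroup G) ≤ H)
    {U : Subgroup G} (hUH : U ≤ H) (hU : IsPGroup p U) :
    ∃ h ∈ H, ∀ u ∈ U, h * u * h⁻¹ ∈ (P : Subgroup G) :=
  conj_into hPH P.isPGroup' (fun h => P.not_dvd_index (h.trans (relIndex_dvd_index_of_le hPH))) hUH hU

/-- An element normalising `W` acts on it as an element of `H`, if this holds for all larger
`p`-subgroups. -/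
theorem automiser (hS : Setup π H) {p : ℕ} [Fact p.Prime] (hpπ : p ∈ π) (P : Sylow p G)
    (hPH : (P : Subgroup G) ≤ H) {W : Subgroup G} (hWP : W ≤ P)
    (hidx : ¬ p ∣ ((P : Subgroup G) ⊓ normalizer (W : Set G)).relIndex (normalizer (W : Set G)))
    (IH : ∀ U : Subgroup G, U ≤ H → IsPGroup p U → Nat.card W < Nat.card U → Fus H U)
    {n : G} (hn : n ∈ normalizer (W : Set G)) :
    ∃ h ∈ H, ∀ w ∈ W, h * w * h⁻¹ = n * w * n⁻¹ := by
  set N := normalizer (W : Set G) with hN
  set C := centralizer (W : Set G) with hC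
  set B := (P : Subgroup G) ⊓ N with hB
  have hW : IsPGroup p W := P.isPGroup'.to_le hWP
  by_cases hW0 : W = ⊥
  · refine ⟨1, H.one_mem, fun w hw => ?_⟩
    rw [hW0, mem_bot] at hw
    simp [hw]
  have hCN : C ≤ N := centralizer_le_normalizer _
  have hWB : W ≤ B := le_inf hWP le_normalizer
  have hBp : IsPGroup p B := P.isPGroup'.to_le inf_le_left
  have hconjN : ∀ {m w : G}, m ∈ N → w ∈ W → m * w * m⁻¹ ∈ W := fun hm hw =>
    (mem_normalizer_iff.mp hm _).mp hw
  have hcomm : ∀ {c w : G}, c ∈ C → w ∈ W → c * w * c⁻¹ = w := fun hc hw => by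
    rw [← mem_centralizer_iff.mp hc _ hw, mul_inv_cancel_right]
  -- everything inside `N`
  set C0 := C.subgroupOf N with hC0
  set B0 := B.subgroupOf N with hB0
  have hC0n : C0.Normal := by
    refine ⟨fun c hc m => ?_⟩
    rw [hC0, mem_subgroupOf] at hc ⊢
    refine mem_centralizer_iff.mpr fun w hw => ?_
    have h1 := mem_centralizer_iff.mp hc _ (hconjN (N.inv_mem m.2) hw)
    simp only [inv_inv] at h1
    push_cast
    calc w * ((m : G) * c * (m : G)⁻¹) = (m : G) * (((m : G)⁻¹ * w * m) * c) * (m : G)⁻¹ := by group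
      _ = (m : G) * c * (m : G)⁻¹ * w := by rw [h1]; group
  have hB0idx : ¬ p ∣ B0.index := hidx
  have hBC : ¬ p ∣ B0.relIndex C0 := fun h =>
    hB0idx (h.trans (relIndex_sup_normal B0 C0 ▸ relIndex_dvd_index_of_le le_sup_left))
  set Cp := (P : Subgroup G) ⊓ C with hCp
  have hCpB : Cp ≤ B := inf_le_inf_left _ hCN
  have hCpC : Cp ≤ C := inf_le_right
  have hCpidx : ¬ p ∣ Cp.relIndex C := by
    have e : B0.relIndex C0 = Cp.relIndex C := by
      rw [hB0, hC0, relIndex_subgroupOf hCN, ← inf_relIndex_right B C, hB, inf_assoc,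
        inf_eq_right.mpr hCN]
    exact e ▸ hBC
  by_cases hcp : Cp ≤ W
  · -- a supplement of the centraliser
    have hhom : ∀ m : N, ∃ k : ℕ, PiNum π k ∧ m ^ k ∈ C0 := fun m => by
      obtain ⟨k, hk, hmk⟩ := hS.hom W hW0 (piSub_pgroup hpπ hW) m m.2
      exact ⟨k, hk, by rw [hC0, mem_subgroupOf]; simpa using hmk⟩
    obtain ⟨X, hXC, hXπ⟩ := exists_pi_supplement C0 hhom
    set W0 := W.subgroupOf N with hW0'
    have hW0π : Cfsg.IsPiSubgroup π W0 := piSub_pgroup hpπ hW.comap_subtype
    have hW0n : W0.Normal := normal_subgroupOf_of_le_normalizer le_rfl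
    set Y := X ⊔ W0 with hY
    have hYπ : Cfsg.IsPiSubgroup π Y := piSub_sup hW0π hXπ le_normalizer_of_normal
    have hYC : Y ⊔ C0 = ⊤ := top_unique (hXC ▸ sup_le_sup_right le_sup_left _)
    have hYidx : ¬ p ∣ Y.index := by
      intro h
      have h1 : Y.index = Y.relIndex C0 := by
        rw [← relIndex_sup_normal, hYC, relIndex_top_right]
      rw [h1] at h
      have h2 : (B0 ⊓ C0) ≤ Y := by
        refine le_trans ?_ (le_sup_right : W0 ≤ Y)
        intro m hm
        exact hcp ⟨hm.1.1, hm.2⟩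
      refine hBC (h.trans ?_)
      rw [← inf_relIndex_right B0 C0]
      exact relIndex_dvd_of_le_left _ h2
    -- conjugate so that it contains `B`
    obtain ⟨S⟩ : Nonempty (Sylow p Y) := inferInstance
    set S' := (S : Subgroup Y).map Y.subtype with hS'
    have hS'idx : ¬ p ∣ S'.index := by
      intro h
      rw [hS', index_map_subtype] at h
      rcases (Fact.out : p.Prime).dvd_mul.mp h with h | h
      · exact S.not_dvd_index h
      · exact hYidx h
    obtain ⟨z, -, hz⟩ := conj_into (B := S') (N := ⊤) (T := B0) le_top (S.isPGroup'.map _)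
      (by rwa [relIndex_top_right]) le_top hBp.comap_subtype
    set Y' := Y.map (MulAut.conj z⁻¹).toMonoidHom with hY'
    have hBY : ∀ b : N, (b : G) ∈ B → b ∈ Y' := fun b hb => by
      rw [hY', mem_map_conj, inv_inv]
      exact map_subtype_le _ (hz b hb)
    have hY'C : Y' ⊔ C0 = ⊤ := by
      have h1 := congrArg (Subgroup.map (MulAut.conj z⁻¹).toMonoidHom) hYC
      rw [Subgroup.map_sup, Subgroup.map_top_of_surjective _ (MulAut.conj z⁻¹).surjective] at h1
      convert h1 using 2
      ext m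
      rw [mem_map_conj, inv_inv]
      exact ⟨fun h => hC0n.conj_mem m h z, fun h => by
        simpa [mul_assoc] using hC0n.conj_mem _ h z⁻¹⟩
    have hY'π : Cfsg.IsPiSubgroup π (Y'.map N.subtype) := fun q hq hd => by
      refine hYπ q hq ?_
      rwa [card_map_of_injective N.subtype_injective,
        hY', card_map_of_injective (MulAut.conj z⁻¹).injective] at hd
    obtain ⟨y, hy⟩ := hS.into _ hY'π
    have hyB : ∀ b ∈ B, y * b * y⁻¹ ∈ H := fun b hb =>
      hy b ⟨⟨b, (inf_le_right : B ≤ N) hb⟩, hBY _ hb, rfl⟩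
    -- move the supplement into `H` by an element of `N`
    obtain ⟨k, hkN, hk⟩ : ∃ k ∈ N, ∀ x ∈ Y'.map N.subtype, k * x * k⁻¹ ∈ H := by
      by_cases hWBeq : W = B
      · have hWP' : W = P := by
          by_contra hne
          exact (grow P.isPGroup' hWP hne).ne hWBeq
        obtain ⟨h, hh, hhP⟩ := into_sylow P hPH (U := W.map (MulAut.conj y).toMonoidHom)
          (by rintro _ ⟨w, hw, rfl⟩; exact hyB w (hWB hw)) (hW.map _)
        refine ⟨h * y, ?_, fun x hx => ?_⟩
        · refine mem_normalizer_iff.mpr fun w => ?_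
          have hsub : W.map (MulAut.conj (h * y)).toMonoidHom ≤ W := by
            rintro _ ⟨v, hv, rfl⟩
            have := hhP _ (conj_mem_map hv)
            rw [← hWP'] at this
            simpa [mul_assoc] using this
          have heq : W.map (MulAut.conj (h * y)).toMonoidHom = W :=
            eq_of_le_of_card_ge hsub
              (card_map_of_injective (MulAut.conj (h * y)).injective).ge
          conv_rhs => rw [← heq]
          rw [mem_map_conj]
          simp [mul_assoc]
        · rw [show h * y * x * (h * y)⁻¹ = h * (y * x * y⁻¹) * h⁻¹ by group]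
          exact H.mul_mem (H.mul_mem hh (hy x hx)) (H.inv_mem hh)
      · have hlt : W < B := lt_of_le_of_ne hWB hWBeq
        obtain ⟨h, hh, hha⟩ := IH B (inf_le_left.trans hPH) hBp
          (lt_of_le_of_ne (card_le_of_le hWB)
            fun e => hWBeq (eq_of_le_of_card_ge hWB e.ge)) y hyB
        refine ⟨h⁻¹ * y, hCN (mem_centralizer_iff.mpr fun w hw => ?_), fun x hx => ?_⟩
        · have := hha w (hWB hw)
          calc w * (h⁻¹ * y) = h⁻¹ * (h * w * h⁻¹) * y := by group
            _ = h⁻¹ * y * w := by rw [this]; group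
        · rw [show h⁻¹ * y * x * (h⁻¹ * y)⁻¹ = h⁻¹ * (y * x * y⁻¹) * h by group]
          exact H.mul_mem (H.mul_mem (H.inv_mem hh) (hy x hx)) hh
    have hmem : (⟨k, hkN⟩⁻¹ * ⟨n, hn⟩ * ⟨k, hkN⟩ : N) ∈ Y' ⊔ C0 := by rw [hY'C]; exact mem_top _
    obtain ⟨x, hx, c, hc, hxc⟩ := mem_sup_of_normal_right.mp hmem
    refine ⟨k * x * k⁻¹, hk _ (mem_map_of_mem _ hx), fun w hw => ?_⟩
    have e : n = k * ((x : G) * (c : G)) * k⁻¹ := by
      have := congrArg Subtype.val hxc
      push_cast at this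
      rw [this]; group
    have hw' : k⁻¹ * w * k ∈ W := by simpa using hconjN (N.inv_mem hkN) hw
    calc k * (x : G) * k⁻¹ * w * (k * (x : G) * k⁻¹)⁻¹
        = k * (x : G) * (k⁻¹ * w * k) * (x : G)⁻¹ * k⁻¹ := by group
      _ = k * (x : G) * ((c : G) * (k⁻¹ * w * k) * (c : G)⁻¹) * (x : G)⁻¹ * k⁻¹ := by
          rw [hcomm (c := (c : G)) hc hw']
      _ = n * w * n⁻¹ := by rw [e]; group
  · -- the Frattini argument
    set U := Cp ⊔ W with hU
    have hCpN : Cp ≤ N := hCpC.trans hCN
    obtain ⟨c, hc, hcc⟩ := conj_into (T := Cp.map (MulAut.conj n).toMonoidHom) hCpC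
      (hBp.to_le hCpB) hCpidx
      (by
        rintro _ ⟨x, hx, rfl⟩
        have := hC0n.conj_mem ⟨x, hCpN hx⟩ (mem_subgroupOf.mpr (hCpC hx)) ⟨n, hn⟩
        rw [mem_subgroupOf] at this
        simpa using this)
      ((hBp.to_le hCpB).map _)
    have hUP : U ≤ P := sup_le inf_le_left hWP
    have hsub : U.map (MulAut.conj (c * n)).toMonoidHom ≤ U := by
      rw [hU, Subgroup.map_sup]
      refine sup_le_sup ?_ ?_
      · rintro _ ⟨x, hx, rfl⟩
        simpa [mul_assoc] using hcc _ (conj_mem_map hx)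
      · rintro _ ⟨x, hx, rfl⟩
        have := hconjN (N.mul_mem (hCN hc) hn) hx
        simpa [mul_assoc] using this
    have hlt : Nat.card W < Nat.card U :=
      lt_of_le_of_ne (card_le_of_le le_sup_right) fun e => hcp
        ((le_sup_left : Cp ≤ U).trans_eq (eq_of_le_of_card_ge le_sup_right e.ge).symm)
    obtain ⟨h, hh, hha⟩ := IH U (hUP.trans hPH) (P.isPGroup'.to_le hUP) hlt (c * n)
      fun u hu => hPH (hUP (hsub (conj_mem_map hu)))
    refine ⟨h, hh, fun w hw => ?_⟩
    rw [hha w ((le_sup_right : W ≤ U) hw)]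
    calc c * n * w * (c * n)⁻¹ = c * (n * w * n⁻¹) * c⁻¹ := by group
      _ = n * w * n⁻¹ := hcomm hc (hconjN hn hw)

/-- `H` controls the fusion of its `p`-subgroups. -/
theorem fus_pgroup (hS : Setup π H) {p : ℕ} [Fact p.Prime] (hpπ : p ∈ π) :
    ∀ (d : ℕ) (U : Subgroup G), Nat.card G - Nat.card U ≤ d → U ≤ H → IsPGroup p U → Fus H U := by
  intro d
  induction d using Nat.strong_induction_on with
  | _ d IHd =>
  intro U hd hUH hU g hg
  have IH : ∀ V : Subgroup G, V ≤ H → IsPGroup p V → Nat.card U < Nat.card V → Fus H V := by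
    intro V hVH hV hlt
    have h1 : Nat.card V ≤ Nat.card G := Nat.le_of_dvd Nat.card_pos (card_subgroup_dvd_card V)
    exact IHd (Nat.card G - Nat.card V) (by omega) V le_rfl hVH hV
  obtain ⟨P, hPH⟩ := exists_sylow_le hS (p := p) hpπ
  -- a well placed conjugate `W` of `U`
  set N := normalizer (U : Set G) with hN
  obtain ⟨S⟩ : Nonempty (Sylow p N) := inferInstance
  set S' := (S : Subgroup N).map N.subtype with hS'
  have hS'idx : ¬ p ∣ S'.relIndex N := by
    rw [hS', relIndex, subgroupOf, comap_map_eq_self_of_injective N.subtype_injective]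
    exact S.not_dvd_index
  obtain ⟨y, -, hy⟩ := conj_into (B := (P : Subgroup G)) (N := ⊤) (T := S') le_top P.isPGroup'
    (by rw [relIndex_top_right]; exact P.not_dvd_index) le_top (S.isPGroup'.map _)
  have hUS : U ≤ S' := by
    obtain ⟨z, hz, hzU⟩ := conj_into (map_subtype_le (S : Subgroup N)) (S.isPGroup'.map _) hS'idx
      (le_normalizer : U ≤ N) hU
    intro u hu
    have h1 : z⁻¹ * u * z ∈ U := by
      simpa using (mem_normalizer_iff.mp (N.inv_mem hz) u).mp hu
    convert hzU _ h1 using 1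
    group
  set W := U.map (MulAut.conj y).toMonoidHom with hW
  have hWP : W ≤ P := by rintro _ ⟨u, hu, rfl⟩; exact hy u (hUS hu)
  have hcard : Nat.card W = Nat.card U := card_map_of_injective (MulAut.conj y).injective
  have hNW : N.map (MulAut.conj y).toMonoidHom = normalizer (W : Set G) :=
    map_normalizer_eq_of_bijective U (MulAut.conj y).bijective
  have hSW : S'.map (MulAut.conj y).toMonoidHom ≤ (P : Subgroup G) ⊓ normalizer (W : Set G) := by
    refine le_inf (by rintro _ ⟨s, hs, rfl⟩; exact hy s hs) ?_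
    rw [← hNW]
    exact Subgroup.map_mono (map_subtype_le _)
  have hWidx : ¬ p ∣ ((P : Subgroup G) ⊓ normalizer (W : Set G)).relIndex
      (normalizer (W : Set G)) := by
    intro h
    have h1 := h.trans (relIndex_dvd_of_le_left _ hSW)
    rw [← hNW, relIndex_map_map_of_injective _ _ (MulAut.conj y).injective] at h1
    exact hS'idx h1
  have IHW : ∀ V : Subgroup G, V ≤ H → IsPGroup p V → Nat.card W < Nat.card V → Fus H V :=
    fun V hVH hV hlt => IH V hVH hV (hcard ▸ hlt)
  -- every conjugate of `U` in `H` is moved to `W` inside `H`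
  have place : ∀ (V : Subgroup G) (x : G), V ≤ H → V.map (MulAut.conj x).toMonoidHom = W →
      ∃ h ∈ H, V.map (MulAut.conj h).toMonoidHom = W := by
    intro V x hVH hVW
    have hcV : Nat.card V = Nat.card W := by
      rw [← hVW]; exact (card_map_of_injective (MulAut.conj x).injective).symm
    have hV : IsPGroup p V := IsPGroup.of_card (hcV.trans (hcard.trans hU.exists_card_eq.choose_spec))
    obtain ⟨h0, hh0, hVP⟩ := into_sylow P hPH hVH hV
    set V1 := V.map (MulAut.conj h0).toMonoidHom with hV1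
    have hV1P : V1 ≤ P := by rintro _ ⟨v, hv, rfl⟩; exact hVP v hv
    have hV1c : Nat.card V1 = Nat.card W :=
      (card_map_of_injective (MulAut.conj h0).injective).trans hcV
    by_cases hV1e : V1 = P
    · refine ⟨h0, hh0, hV1e.trans (eq_of_le_of_card_ge hWP ?_).symm⟩
      rw [← hV1c, hV1e]
    · have hlt := grow P.isPGroup' hV1P hV1e
      set T := (P : Subgroup G) ⊓ normalizer (V1 : Set G) with hT
      -- `N(V1)` maps onto `N(W)`
      have hx' : V1.map (MulAut.conj (x * h0⁻¹)).toMonoidHom = W := by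
        rw [← hVW, hV1, Subgroup.map_map]
        congr 1
        ext v
        simp [mul_assoc]
      have hNV : (normalizer (V1 : Set G)).map (MulAut.conj (x * h0⁻¹)).toMonoidHom =
          normalizer (W : Set G) := by
        rw [map_normalizer_eq_of_bijective V1 (MulAut.conj (x * h0⁻¹)).bijective, hx']
      obtain ⟨z, hz, hzT⟩ := conj_into (inf_le_right :
        (P : Subgroup G) ⊓ normalizer (W : Set G) ≤ _) (P.isPGroup'.to_le inf_le_left) hWidx
        (T := T.map (MulAut.conj (x * h0⁻¹)).toMonoidHom)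
        (hNV ▸ Subgroup.map_mono inf_le_right) ((P.isPGroup'.to_le inf_le_left).map _)
      obtain ⟨h1, hh1, hha⟩ := IH T (inf_le_left.trans hPH) (P.isPGroup'.to_le inf_le_left)
        (by
          rw [← hcard, ← hV1c]
          exact lt_of_le_of_ne (card_le_of_le hlt.le)
            fun e => hlt.ne (eq_of_le_of_card_ge hlt.le e.ge))
        (z * (x * h0⁻¹)) (fun t ht => by
          have := hzT _ (conj_mem_map ht)
          have := hPH this.1
          simpa [mul_assoc] using this)
      refine ⟨h1 * h0, H.mul_mem hh1 hh0,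
        eq_of_le_of_card_ge ?_ ?_⟩
      · rintro _ ⟨v, hv, rfl⟩
        have hv1 : h0 * v * h0⁻¹ ∈ V1 := conj_mem_map hv
        have h2 := hha _ (hlt.le hv1)
        have h3 : (x * h0⁻¹) * (h0 * v * h0⁻¹) * (x * h0⁻¹)⁻¹ ∈ W := by
          rw [← hx']; exact conj_mem_map hv1
        have h4 := (mem_normalizer_iff.mp hz _).mp h3
        show h1 * h0 * v * (h1 * h0)⁻¹ ∈ W
        rw [show h1 * h0 * v * (h1 * h0)⁻¹ = h1 * (h0 * v * h0⁻¹) * h1⁻¹ by group, h2]
        convert h4 using 1
        group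
      · rw [← hcV]; exact (card_map_of_injective (MulAut.conj (h1 * h0)).injective).ge
  obtain ⟨a, ha, haU⟩ := place U y hUH rfl
  obtain ⟨b, hb, hbV⟩ := place (U.map (MulAut.conj g).toMonoidHom) (y * g⁻¹)
    (by rintro _ ⟨u, hu, rfl⟩; exact hg u hu) (by
      rw [hW, Subgroup.map_map]
      congr 1
      ext v
      simp [mul_assoc])
  have hn : b * g * a⁻¹ ∈ normalizer (W : Set G) := by
    refine mem_normalizer_iff.mpr fun w => ?_
    conv_lhs => rw [← haU, mem_map_conj]
    conv_rhs => rw [← hbV, mem_map_conj, mem_map_conj]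
    simp [mul_assoc]
  obtain ⟨h, hh, hha⟩ := automiser hS hpπ P hPH hWP hWidx IHW hn
  refine ⟨b⁻¹ * h * a, H.mul_mem (H.mul_mem (H.inv_mem hb) hh) ha, fun u hu => ?_⟩
  have := hha _ (haU ▸ conj_mem_map (g := a) hu)
  calc b⁻¹ * h * a * u * (b⁻¹ * h * a)⁻¹ = b⁻¹ * (h * (a * u * a⁻¹) * h⁻¹) * b := by group
    _ = g * u * g⁻¹ := by rw [this]; group

/-- The centraliser of an element of `H`, when `H` controls the fusion of this element. -/
theorem setup_centralizer (hS : Setup π H) {s : G} (hs : s ∈ H)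
    (hfus : ∀ t ∈ H, IsConj s t → ∃ h ∈ H, h * t * h⁻¹ = s) :
    Setup π (H.subgroupOf (centralizer ({s} : Set G))) := by
  set C := centralizer ({s} : Set G) with hC
  refine ⟨fun p hp hd => hS.piH p hp (hd.trans ?_), fun L hL => ?_, fun U hU hUπ n hn => ?_⟩
  · rw [← card_map_of_injective C.subtype_injective, subgroupOf_map_subtype]
    exact card_dvd_of_le inf_le_left
  · set L' := L.map C.subtype with hL'
    have hL'π : Cfsg.IsPiSubgroup π L' := fun p hp hd =>
      hL p hp (by rwa [hL', card_map_of_injective C.subtype_injective] at hd)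
    have hle : L' ≤ normalizer ((zpowers s : Subgroup G) : Set G) := by
      refine le_trans ?_ (centralizer_le_normalizer _)
      intro l hl
      have := mem_centralizer_singleton_iff.mp (map_subtype_le L hl)
      refine mem_centralizer_iff.mpr fun z hz => ?_
      obtain ⟨j, rfl⟩ := mem_zpowers_iff.mp hz
      exact ((show Commute l s from this).zpow_right j).eq.symm
    obtain ⟨y, hy⟩ := hS.into _ (piSub_sup (piSub_le hS.piH (zpowers_le.mpr hs)) hL'π hle)
    obtain ⟨h, hh, hhs⟩ := hfus _ (hy s ((le_sup_right : zpowers s ≤ _) (mem_zpowers s)))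
      (isConj_iff.mpr ⟨y, rfl⟩)
    have hC' : h * y ∈ C := by
      rw [hC, mem_centralizer_singleton_iff]
      calc h * y * s = h * (y * s * y⁻¹) * h⁻¹ * (h * y) := by group
        _ = s * (h * y) := by rw [hhs]
    refine ⟨⟨h * y, hC'⟩, fun l hl => ?_⟩
    rw [mem_subgroupOf]
    push_cast
    rw [show h * y * (l : G) * (h * y)⁻¹ = h * (y * l * y⁻¹) * h⁻¹ by group]
    exact H.mul_mem (H.mul_mem hh (hy _ ((le_sup_left : L' ≤ _) ⟨l, hl, rfl⟩))) (H.inv_mem hh)
  · obtain ⟨k, hk, hnk⟩ := hS.hom (U.map C.subtype)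
      (fun e => hU (by rwa [map_eq_bot_iff_of_injective _ C.subtype_injective] at e))
      (fun p hp hd => hUπ p hp (by rwa [card_map_of_injective C.subtype_injective] at hd))
      (n : G) (by
        have := le_normalizer_map C.subtype (mem_map_of_mem C.subtype hn)
        simpa using this)
    refine ⟨k, hk, mem_centralizer_iff.mpr fun u hu => Subtype.ext ?_⟩
    push_cast
    exact mem_centralizer_iff.mp hnk _ ⟨u, hu, rfl⟩

/-- `H` controls the fusion of its elements. -/
theorem fus_elem (hS : Setup π H) :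
    ∀ (d : ℕ) (a b : G), orderOf a = d → a ∈ H → b ∈ H → IsConj a b →
      ∃ h ∈ H, h * a * h⁻¹ = b := by
  intro d
  induction d using Nat.strong_induction_on with
  | _ d IH =>
  intro a b hd ha hb hab
  obtain ⟨g, rfl⟩ := isConj_iff.mp hab
  by_cases h1 : a = 1
  · exact ⟨1, H.one_mem, by simp [h1]⟩
  obtain ⟨p, hp, hpd⟩ := Nat.exists_prime_and_dvd (fun e => h1 (orderOf_eq_one_iff.mp e))
  have := Fact.mk hp
  have hpπ : p ∈ π := hS.piH p hp (hpd.trans (orderOf_dvd_natCard H ha))
  set e := (orderOf a).factorization p with he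
  set r := orderOf a / p ^ e with hr
  have hn0 : orderOf a ≠ 0 := (orderOf_pos a).ne'
  set s := a ^ p ^ e with hs
  set t := a ^ r with ht
  have hsord : orderOf s = r := orderOf_pow_of_dvd (pow_ne_zero _ hp.ne_zero) (Nat.ordProj_dvd _ p)
  have hlt : orderOf s < d := by
    rw [hsord, ← hd]
    exact Nat.div_lt_self (orderOf_pos a)
      (Nat.one_lt_pow (hp.factorization_pos_of_dvd hn0 hpd).ne' hp.one_lt)
  have hsH : s ∈ H := pow_mem ha _
  have hgs : g * s * g⁻¹ ∈ H := by rw [hs, ← conj_pow]; exact pow_mem hb _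
  obtain ⟨h0, hh0, hh0s⟩ := IH _ hlt s _ rfl hsH hgs (isConj_iff.mpr ⟨g, rfl⟩)
  have hS' := setup_centralizer hS hsH fun t ht hc => by
    obtain ⟨h, hh, e⟩ := IH _ hlt s t rfl hsH ht hc
    exact ⟨h⁻¹, H.inv_mem hh, by rw [← e]; group⟩
  set C := centralizer ({s} : Set G) with hC
  have hgC : h0⁻¹ * g ∈ C := by
    rw [hC, mem_centralizer_singleton_iff]
    calc h0⁻¹ * g * s = h0⁻¹ * (g * s * g⁻¹) * g := by group
      _ = s * (h0⁻¹ * g) := by rw [← hh0s]; group
  have htC : t ∈ C := by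
    rw [hC, mem_centralizer_singleton_iff]
    exact (Commute.pow_pow_self a r (p ^ e)).eq
  have hT : IsPGroup p (zpowers (⟨t, htC⟩ : C)) := by
    have hdvd : orderOf t ∣ p ^ e := orderOf_dvd_of_pow_eq_one (by
      rw [ht, ← pow_mul, mul_comm, Nat.ordProj_mul_ordCompl_eq_self, pow_orderOf_eq_one])
    obtain ⟨j, -, hj⟩ := (Nat.dvd_prime_pow hp).mp hdvd
    refine IsPGroup.of_card (n := j) ?_
    rw [Nat.card_zpowers, ← orderOf_injective C.subtype C.subtype_injective]
    exact hj
  have htH : (⟨t, htC⟩ : C) ∈ H.subgroupOf C := mem_subgroupOf.mpr (pow_mem ha r)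
  obtain ⟨h, hh, hha⟩ := fus_pgroup hS' hpπ _ (zpowers (⟨t, htC⟩ : C)) le_rfl
    (zpowers_le.mpr htH) hT ⟨h0⁻¹ * g, hgC⟩ (by
      intro u hu
      obtain ⟨j, rfl⟩ := mem_zpowers_iff.mp hu
      rw [← conj_zpow]
      refine zpow_mem ?_ j
      rw [mem_subgroupOf]
      push_cast
      rw [show h0⁻¹ * g * t * (h0⁻¹ * g)⁻¹ = h0⁻¹ * (g * t * g⁻¹) * h0 by group, ht, ← conj_pow]
      exact H.mul_mem (H.mul_mem (H.inv_mem hh0) (pow_mem hb r)) hh0)
  rw [mem_subgroupOf] at hh
  refine ⟨h0 * h, H.mul_mem hh0 hh, ?_⟩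
  have ht' : (h : G) * t * (h : G)⁻¹ = h0⁻¹ * g * t * (h0⁻¹ * g)⁻¹ := by
    simpa using congrArg Subtype.val (hha _ (mem_zpowers _))
  have hs' : (h : G) * s * (h : G)⁻¹ = h0⁻¹ * g * s * (h0⁻¹ * g)⁻¹ := by
    rw [mem_centralizer_singleton_iff.mp h.2, mul_inv_cancel_right,
      mem_centralizer_singleton_iff.mp hgC, mul_inv_cancel_right]
  obtain ⟨α, β, hαβ⟩ : ∃ α β : ℤ, (1 : ℤ) = (p ^ e : ℕ) * α + (r : ℤ) * β :=
    ⟨_, _, by
      rw [← Nat.gcd_eq_gcd_ab, ((Nat.coprime_ordCompl hp hn0).pow_left e).gcd_eq_one]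
      rfl⟩
  have ea : a = s ^ α * t ^ β := by
    rw [hs, ht, ← zpow_natCast, ← zpow_natCast a r, ← zpow_mul, ← zpow_mul, ← zpow_add, ← hαβ,
      zpow_one]
  have key : (h : G) * a * (h : G)⁻¹ = h0⁻¹ * g * a * (h0⁻¹ * g)⁻¹ := by
    rw [ea, conj_mul.symm, conj_mul.symm, ← conj_zpow, ← conj_zpow, ← conj_zpow, ← conj_zpow, hs', ht']
  calc h0 * h * a * (h0 * h)⁻¹ = h0 * ((h : G) * a * (h : G)⁻¹) * h0⁻¹ := by group
    _ = g * a * g⁻¹ := by rw [key]; group

end Cfsg.Agent.PiHom
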